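import Mathlib

/-!
A subgroup containing the centraliser of an involution with one class of involutions: the counting of the
involutions outside it.
-/

set_option autoImplicit false

namespace CfsgLib.UFourType.Endgame

variable {G : Type*} [Group G]

/-- An element moving an involution of the subgroup into it lies in the subgroup. -/
theorem mem_of_conj_mem {X : Subgroup G} {z : G} (hC : Subgroup.centralizer ({z} : Set G) ≤ X)
    (hX : ∀ v ∈ X, orderOf v = 2 → ∃ g ∈ X, g * z * g⁻¹ = v) {v g : G} (hv : v ∈ X) (hv2 : orderOf v = 2)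
    (h : g⁻¹ * v * g ∈ X) : g ∈ X := by
  obtain ⟨x, hx, ex⟩ := hX v hv hv2
  obtain ⟨y, hy, ey⟩ := hX _ h (by
    have e := (Commute.refl v).eq
    rw [← MulEquiv.orderOf_eq (MulAut.conj g)]
    simpa [MulAut.conj_apply, mul_assoc] using hv2)
  have hc : x⁻¹ * g * y ∈ Subgroup.centralizer ({z} : Set G) := by
    rw [Subgroup.mem_centralizer_singleton_iff]
    calc x⁻¹ * g * y * z = x⁻¹ * g * (y * z * y⁻¹) * y := by group
      _ = x⁻¹ * g * (g⁻¹ * v * g) * y := by rw [ey]
      _ = x⁻¹ * (x * z * x⁻¹) * g * y := by rw [ex]; group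
      _ = z * (x⁻¹ * g * y) := by group
  have := mul_mem (mul_mem hx (hC hc)) (inv_mem hy)
  rwa [show x * (x⁻¹ * g * y) * y⁻¹ = g by group] at this

/-- Some involution outside inverts many elements of a subgroup of odd order. -/
theorem exists_inverted [Finite G] {X : Subgroup G} {z : G} (hz : orderOf z = 2)
    (hC : Subgroup.centralizer ({z} : Set G) ≤ X)
    (hX : ∀ v ∈ X, orderOf v = 2 → ∃ g ∈ X, g * z * g⁻¹ = v) (hne : X ≠ ⊤) :
    ∃ (j : G) (K : Subgroup G), K ≤ X ∧ Odd (Nat.card ↥K) ∧ orderOf j = 2 ∧ (∀ k ∈ K, j * k * j ∈ K) ∧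
      (Subgroup.centralizer ({z} : Set G)).relIndex X ≤ {k | k ∈ K ∧ j * k * j = k⁻¹}.ncard := by
  classical
  haveI : Fintype G := Fintype.ofFinite _
  set C := Subgroup.centralizer ({z} : Set G) with hCdef
  have hzX : z ∈ X := hC (Subgroup.mem_centralizer_singleton_iff.2 rfl)
  -- the class of `z`, and its part inside
  let cls : Finset G := Finset.univ.image fun g => g * z * g⁻¹
  let inX : Finset G := (Finset.univ.filter fun g => g ∈ X).image fun g => g * z * g⁻¹
  have fib : ∀ g g' : G, g * z * g⁻¹ = g' * z * g'⁻¹ ↔ g⁻¹ * g' ∈ C := fun g g' => by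
    rw [hCdef, Subgroup.mem_centralizer_singleton_iff]
    constructor
    · intro h
      calc g⁻¹ * g' * z = g⁻¹ * (g' * z * g'⁻¹) * g' := by group
        _ = g⁻¹ * (g * z * g⁻¹) * g' := by rw [h]
        _ = _ := by group
    · intro h
      calc g * z * g⁻¹ = g * (z * (g⁻¹ * g')) * g'⁻¹ := by group
        _ = g * (g⁻¹ * g' * z) * g'⁻¹ := by rw [h]
        _ = _ := by group
  have hcls : cls.card = C.index := by
    rw [Subgroup.index_eq_card, Nat.card_eq_fintype_card, ← Finset.card_univ]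
    symm
    refine Finset.card_bij (fun q _ => q.out * z * q.out⁻¹) (fun q _ => ?_) (fun p _ q _ h => ?_) fun v hv => ?_
    · simp [cls]
    · rw [← p.out_eq', ← q.out_eq']; exact QuotientGroup.eq.2 ((fib _ _).1 h)
    · simp only [cls, Finset.mem_image, Finset.mem_univ, true_and] at hv
      obtain ⟨g, rfl⟩ := hv
      refine ⟨(g : G ⧸ C), Finset.mem_univ _, (fib _ _).2 ?_⟩
      exact QuotientGroup.eq.1 (QuotientGroup.mk (s := C) g).out_eq'
  have hin : inX.card = C.relIndex X := by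
    rw [Subgroup.relIndex, Subgroup.index_eq_card, Nat.card_eq_fintype_card, ← Finset.card_univ]
    symm
    refine Finset.card_bij (fun q _ => (q.out : G) * z * (q.out : G)⁻¹) (fun q _ => ?_) (fun p _ q _ h => ?_)
      fun v hv => ?_
    · simp only [inX, Finset.mem_image, Finset.mem_filter, Finset.mem_univ, true_and]
      exact ⟨_, q.out.2, rfl⟩
    · rw [← p.out_eq', ← q.out_eq']
      exact QuotientGroup.eq.2 (Subgroup.mem_subgroupOf.2 (by simpa using (fib _ _).1 h))
    · simp only [inX, Finset.mem_image, Finset.mem_filter, Finset.mem_univ, true_and] at hv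
      obtain ⟨g, hg, rfl⟩ := hv
      refine ⟨((⟨g, hg⟩ : ↥X) : ↥X ⧸ C.subgroupOf X), Finset.mem_univ _, (fib _ _).2 ?_⟩
      have := Subgroup.mem_subgroupOf.1
        (QuotientGroup.eq.1 (QuotientGroup.mk (s := C.subgroupOf X) ⟨g, hg⟩).out_eq')
      simpa using this
  have hmul : C.index = C.relIndex X * X.index := (Subgroup.relIndex_mul_index hC).symm
  let out : Finset G := cls.filter fun v => v ∉ X
  have hout : C.relIndex X * (X.index - 1) ≤ out.card := by
    have hsub : cls.filter (fun v => v ∈ X) ⊆ inX := fun v hv => by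
      simp only [Finset.mem_filter, cls, Finset.mem_image, Finset.mem_univ, true_and] at hv
      obtain ⟨⟨g, rfl⟩, hvX⟩ := hv
      obtain ⟨x, hx, e⟩ := hX _ hvX (by
        rw [← MulEquiv.orderOf_eq (MulAut.conj g⁻¹)]; simpa [MulAut.conj_apply, mul_assoc] using hz)
      simp only [inX, Finset.mem_image, Finset.mem_filter, Finset.mem_univ, true_and]
      exact ⟨x, hx, e⟩
    have h1 := Finset.card_filter_add_card_filter_not (s := cls) (fun v => v ∈ X)
    have h2 := Finset.card_le_card hsub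
    rw [hcls, hmul] at h1
    rw [Nat.mul_sub, mul_one]
    simp only [out]
    omega
  let T : Finset (G ⧸ X) := Finset.univ.erase ((1 : G) : G ⧸ X)
  have hT : T.card = X.index - 1 := by
    rw [Finset.card_erase_of_mem (Finset.mem_univ _), Finset.card_univ, Subgroup.index_eq_card,
      Nat.card_eq_fintype_card]
  have h2 : 2 ≤ X.index := by
    have h1 : X.index ≠ 1 := fun h => hne (Subgroup.index_eq_one.1 h)
    have h0 : X.index ≠ 0 := Subgroup.index_ne_zero_of_finite
    omega
  have hmaps : ∀ v ∈ out, (v : G ⧸ X) ∈ T := fun v hv => by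
    simp only [T, Finset.mem_erase, Finset.mem_univ, and_true]
    intro h
    rw [eq_comm, QuotientGroup.eq, inv_one, one_mul] at h
    exact (Finset.mem_filter.1 hv).2 h
  obtain ⟨q, -, hq⟩ := Finset.exists_le_card_fiber_of_mul_le_card_of_maps_to (n := C.relIndex X) hmaps
    (Finset.card_pos.1 (by omega)) (by rw [hT, mul_comm]; exact hout)
  have hpos : 0 < C.relIndex X := Nat.pos_of_ne_zero (C.subgroupOf X).index_ne_zero_of_finite
  obtain ⟨j, hj⟩ : (out.filter fun v : G => (v : G ⧸ X) = q).Nonempty := Finset.card_pos.1 (by omega)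
  have inv2 : ∀ v ∈ out, v * v = 1 ∧ orderOf v = 2 := fun v hv => by
    simp only [out, cls, Finset.mem_filter, Finset.mem_image, Finset.mem_univ, true_and] at hv
    obtain ⟨⟨g, rfl⟩, -⟩ := hv
    have e : orderOf (g * z * g⁻¹) = 2 := by
      rw [← MulEquiv.orderOf_eq (MulAut.conj g⁻¹)]; simpa [MulAut.conj_apply, mul_assoc] using hz
    exact ⟨by rw [← pow_two, ← e, pow_orderOf_eq_one], e⟩
  obtain ⟨hj', hjq⟩ := Finset.mem_filter.1 hj
  obtain ⟨hjj, hj2⟩ := inv2 j hj'
  have hjinv : j⁻¹ = j := inv_eq_of_mul_eq_one_right hjj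
  refine ⟨j, X ⊓ X.map (MulAut.conj j).toMonoidHom, inf_le_left, ?_, hj2, ?_, ?_⟩
  · by_contra h
    rw [Nat.not_odd_iff_even, even_iff_two_dvd] at h
    haveI := Fact.mk Nat.prime_two
    obtain ⟨⟨v, hvX, hvY⟩, hv2⟩ := exists_prime_orderOf_dvd_card' 2 h
    obtain ⟨w, hw, e⟩ := Subgroup.mem_map.1 hvY
    replace hv2 : orderOf v = 2 := by rw [← hv2]; exact Subgroup.orderOf_coe (H := X ⊓ X.map (MulAut.conj j).toMonoidHom) ⟨v, ⟨hvX, hvY⟩⟩
    refine (Finset.mem_filter.1 hj').2 (mem_of_conj_mem hC hX (g := j) hvX hv2 ?_)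
    have e' : j * w * j⁻¹ = v := e
    rw [← e', show j⁻¹ * (j * w * j⁻¹) * j = w by group]
    exact hw
  · rintro k ⟨hk, hk'⟩
    obtain ⟨w, hw, e⟩ := Subgroup.mem_map.1 hk'
    have e' : j * w * j⁻¹ = k := e
    refine ⟨?_, Subgroup.mem_map.2 ⟨k, hk, by simp [hjinv]⟩⟩
    rw [← e', hjinv, show j * (j * w * j) * j = (j * j) * w * (j * j) by group, hjj, one_mul, mul_one]
    exact hw
  · refine hq.trans ?_
    rw [← Set.ncard_coe_finset]
    refine Set.ncard_le_ncard_of_injOn (fun v => j * v) (fun v hv => ?_)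
      (fun a _ b _ h => mul_left_cancel h) (Set.toFinite _)
    obtain ⟨hv', hvq⟩ := Finset.mem_filter.1 hv
    obtain ⟨hvv, -⟩ := inv2 v hv'
    have hk : j * v ∈ X := by
      have := QuotientGroup.eq.1 (hjq.trans hvq.symm)
      rwa [hjinv] at this
    have hk2 : j * (j * v) * j = (j * v)⁻¹ := by
      rw [mul_inv_rev, hjinv, inv_eq_of_mul_eq_one_right hvv, ← mul_assoc, hjj, one_mul]
    refine ⟨⟨hk, Subgroup.mem_map.2 ⟨(j * v)⁻¹, inv_mem hk, ?_⟩⟩, hk2⟩
    show j * (j * v)⁻¹ * j⁻¹ = j * v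
    rw [mul_inv_rev, hjinv, inv_eq_of_mul_eq_one_right hvv, mul_assoc, mul_assoc, hjj, mul_one]

end CfsgLib.UFourType.Endgame
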