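import Cfsg.Agent.Lib.UFourType.Basic
import Mathlib.Tactic

/-!
Every involution of the coded centraliser is conjugate to the central one by the codes and the cycling element.
-/

set_option autoImplicit false
set_option maxRecDepth 100000

namespace CfsgLib.UFourType

/-- Involution codes, each with the way it arises from an earlier one. -/
def fuseTab : List (ℕ × ℕ × ℕ × ℕ × ℕ) := [(1, 0, 0, 0, 0), (2, 1, 0, 0, 0), (3, 2, 0, 0, 0), (8, 0, 1, 32, 32), (9, 0, 1, 48, 36), (5, 0, 1, 64, 64), (4, 0, 1, 80, 72), (24, 0, 1, 96, 288), (25, 0, 1, 112, 299), (16, 0, 1, 128, 159), (17, 0, 1, 144, 156), (31, 0, 1, 160, 640), (30, 0, 1, 176, 648), (6, 0, 1, 224, 416), (7, 0, 1, 240, 427), (21, 0, 1, 288, 96), (20, 0, 1, 304, 102), (11, 0, 1, 320, 339), (10, 0, 1, 336, 331), (939, 1, 3, 0, 0), (931, 2, 3, 0, 0), (937, 1, 4, 0, 0), (928, 2, 4, 0, 0), (960, 1, 5, 0, 0), (965, 2, 5, 0, 0), (962, 1, 6, 0, 0), (966, 2, 6, 0, 0), (961, 1, 13, 0, 0), (967, 2, 13, 0, 0), (963, 1, 14, 0, 0),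 (964, 2, 14, 0, 0), (938, 1, 17, 0, 0), (929, 2, 17, 0, 0), (936, 1, 18, 0, 0), (930, 2, 18, 0, 0), (1012, 0, 19, 64, 64), (1008, 0, 19, 68, 67), (996, 0, 19, 80, 72), (993, 0, 19, 84, 75), (70, 0, 19, 96, 288), (95, 0, 19, 100, 296), (89, 0, 19, 112, 299), (65, 0, 19, 116, 291), (992, 0, 19, 128, 159), (1009, 0, 19, 132, 150), (997, 0, 19, 144, 156), (1013, 0, 19, 148, 149), (64, 0, 19, 160, 640), (94, 0, 19, 164, 651), (88, 0, 19, 176, 648), (71, 0, 19, 180, 643), (864, 0, 23, 32, 32), (873, 0, 23, 40, 34), (881, 0, 23, 48, 36), (889, 0, 23, 56, 38), (865, 0, 23, 128, 159), (880, 0, 23, 136, 154), (872, 0, 23, 144, 156), (888, 0, 23, 152, 153), (32, 0, 23, 160, 640), (62, 0, 23, 168, 664), (42, 0, 23, 176, 648), (52, 0, 23, 184, 656), (33, 0, 23, 320, 339), (43, 0, 23, 328, 346), (63, 0, 23, 336, 331), (53, 0, 23, 344, 322)]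

/-- The table is correct at a position. -/
def fuseOk (i : ℕ) : Bool :=
  match fuseTab.getD i (0, 0, 0, 0, 0) with
  | (c, k, j, h, h') =>
    if i = 0 then c == zC else
      Nat.blt j i && (if k = 0 then
          Nat.blt h 1152 && Nat.blt h' 1152 && uMul h h' == 0 &&
            uMul (uMul h' (fuseTab.getD j (0, 0, 0, 0, 0)).1) h == c
        else if k = 1 then psiT.contains ((fuseTab.getD j (0, 0, 0, 0, 0)).1, c)
        else psiT.contains (c, (fuseTab.getD j (0, 0, 0, 0, 0)).1))

theorem fuse_check : (List.range fuseTab.length).all (fun i => fuseOk i &&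
    Nat.blt (fuseTab.getD i (0, 0, 0, 0, 0)).1 1152) = true := by decide +kernel

theorem invol_check : (List.range 1152).all (fun c => c == 0 || !(uMul c c == 0) ||
    fuseTab.any (fun r => r.1 == c)) = true := by decide +kernel

variable {G : Type*} [Group G]

/-- The subgroup generated by the centraliser and the cycling element. -/
def gX (el : ℕ → G) (s : G) : Subgroup G := Subgroup.closure (el '' {c | c < 1152} ∪ {s})

theorem el_mem_gX (el : ℕ → G) (s : G) {c : ℕ} (hc : c < 1152) : el c ∈ gX el s :=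
  Subgroup.subset_closure (Or.inl ⟨c, hc, rfl⟩)

theorem s_mem_gX (el : ℕ → G) (s : G) : s ∈ gX el s := Subgroup.subset_closure (Or.inr rfl)

/-- Fusion inside the generated subgroup. -/
theorem conj_of_invol {z : G} {el : ℕ → G} {s : G} (C : Code z el) (S : Cyc el s) {c : ℕ} (hc : c < 1152)
    (h2 : uMul c c = 0) (h0 : c ≠ 0) : ∃ g ∈ gX el s, g * z * g⁻¹ = el c := by
  have main : ∀ i < fuseTab.length, ∃ g ∈ gX el s, g * z * g⁻¹ = el (fuseTab.getD i (0, 0, 0, 0, 0)).1 := by
    intro i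
    induction i using Nat.strong_induction_on with
    | _ i ih =>
      intro hi
      have hb := List.all_eq_true.1 fuse_check i (List.mem_range.2 hi)
      rw [Bool.and_eq_true, Nat.blt_eq] at hb
      obtain ⟨hok, hlt⟩ := hb
      unfold fuseOk at hok
      obtain ⟨c', k, j, h, h', e⟩ : ∃ c' k j h h', fuseTab.getD i (0, 0, 0, 0, 0) = (c', k, j, h, h') :=
        ⟨_, _, _, _, _, rfl⟩
      rw [e] at hok hlt ⊢
      simp only at hok hlt ⊢
      by_cases hi0 : i = 0
      · rw [if_pos hi0, beq_iff_eq] at hok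
        exact ⟨1, one_mem _, by rw [hok, C.z_eq]; simp⟩
      rw [if_neg hi0, Bool.and_eq_true, Nat.blt_eq] at hok
      obtain ⟨hj, hok⟩ := hok
      have hjl : j < fuseTab.length := by omega
      obtain ⟨g, hg, eg⟩ := ih j hj hjl
      have hp := List.all_eq_true.1 fuse_check j (List.mem_range.2 hjl)
      rw [Bool.and_eq_true, Nat.blt_eq] at hp
      set p := (fuseTab.getD j (0, 0, 0, 0, 0)).1
      split_ifs at hok with hk hk1
      · simp only [Bool.and_eq_true, Nat.blt_eq, beq_iff_eq] at hok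
        obtain ⟨⟨⟨h1, h1'⟩, hinv⟩, hcc⟩ := hok
        have einv : el h' = (el h)⁻¹ := by
          refine eq_inv_of_mul_eq_one_right ?_
          rw [(C.mul _ _ h1 h1').2, hinv, C.one]
        refine ⟨el h' * g, mul_mem (el_mem_gX el s h1') hg, ?_⟩
        obtain ⟨m1, m2⟩ := C.mul h' p h1' hp.2
        rw [← hcc, ← (C.mul _ _ m1 h1).2, ← m2, ← eg, einv]
        group
      · have := S.tab _ (List.contains_iff_mem.1 hok)
        simp only at this
        refine ⟨s⁻¹ * g, mul_mem (inv_mem (s_mem_gX el s)) hg, ?_⟩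
        calc s⁻¹ * g * z * (s⁻¹ * g)⁻¹ = s⁻¹ * (g * z * g⁻¹) * s := by group
          _ = el c' := by rw [eg, mul_assoc, this, ← mul_assoc, inv_mul_cancel, one_mul]
      · have := S.tab _ (List.contains_iff_mem.1 hok)
        simp only at this
        refine ⟨s * g, mul_mem (s_mem_gX el s) hg, ?_⟩
        calc s * g * z * (s * g)⁻¹ = s * (g * z * g⁻¹) * s⁻¹ := by group
          _ = el c' := by rw [eg, ← this, mul_assoc, mul_inv_cancel, mul_one]
  have hb := List.all_eq_true.1 invol_check c (List.mem_range.2 hc)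
  simp only [Bool.or_eq_true, beq_iff_eq, Bool.not_eq_true', beq_eq_false_iff_ne, h2, h0, ne_eq, not_true_eq_false,
    false_or, List.any_eq_true] at hb
  obtain ⟨r, hr, rfl⟩ := hb
  obtain ⟨i, hi, rfl⟩ := List.getElem_of_mem hr
  have := main i hi
  rwa [List.getD_eq_getElem _ _ hi] at this

end CfsgLib.UFourType
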