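import Mathlib

/-!
Subgroups of odd order of a group of order 3265920 inverted by an involution.
-/

set_option autoImplicit false

namespace CfsgLib.UFourType.Endgame

variable {G : Type*} [Group G]

/-- A fixed-point-free involutory automorphism inverts everything, so the group is abelian. -/
theorem all_inverted [Finite G] {K : Subgroup G} {j : G} (hjj : j * j = 1) (hnorm : ∀ k ∈ K, j * k * j ∈ K)
    (hfree : ∀ k ∈ K, j * k * j = k → k = 1) : ∀ k ∈ K, j * k * j = k⁻¹ := by
  have hjm : ∀ x : G, j * (j * x) = x := fun x => by rw [← mul_assoc, hjj, one_mul]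
  have hji : j⁻¹ = j := inv_eq_of_mul_eq_one_right hjj
  let T : ↥K → ↥K := fun k => ⟨(k : G)⁻¹ * (j * k * j), mul_mem (inv_mem k.2) (hnorm k k.2)⟩
  have hinj : Function.Injective T := by
    intro p q h
    have h' : (p : G)⁻¹ * (j * p * j) = (q : G)⁻¹ * (j * q * j) := congrArg Subtype.val h
    have e : j * ((q : G) * (p : G)⁻¹) * j = q * (p : G)⁻¹ := by
      calc j * ((q : G) * (p : G)⁻¹) * j = (j * q * j) * (j * p * j)⁻¹ := by
            simp only [mul_inv_rev, hji, mul_assoc, hjm]
        _ = q * ((q : G)⁻¹ * (j * q * j)) * (j * p * j)⁻¹ := by group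
        _ = q * ((p : G)⁻¹ * (j * p * j)) * (j * p * j)⁻¹ := by rw [h']
        _ = _ := by group
    exact Subtype.ext (mul_inv_eq_one.1 (hfree _ (mul_mem q.2 (inv_mem p.2)) e)).symm
  intro k hk
  obtain ⟨p, hp⟩ := (Finite.injective_iff_surjective.1 hinj) ⟨k, hk⟩
  have hp' : (p : G)⁻¹ * (j * p * j) = k := congrArg Subtype.val hp
  rw [← hp']
  simp only [mul_inv_rev, inv_inv, hji, mul_assoc, hjm, hjj, mul_one]

/-- No subgroup of odd order has 2835 inverted elements. -/
theorem inverted_lt [Finite G] {X K : Subgroup G} (hX : Nat.card ↥X = 3265920) (hK : K ≤ X)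
    (hodd : Odd (Nat.card ↥K)) {j : G} (hjj : j * j = 1) (hnorm : ∀ k ∈ K, j * k * j ∈ K)
    (hcj : Nat.card ↥(Subgroup.centralizer ({j} : Set G)) = 1152)
    (h7 : ∀ P : Subgroup G, P ≤ X → Nat.card ↥P = 7 →
      Nat.card ↥(Subgroup.normalizer (P : Set G) ⊓ X : Subgroup G) = 21)
    {a : G} (ha : a ∈ X) (ha3 : orderOf a = 3)
    (h5 : ∀ f : G, orderOf f = 5 → ¬ Commute a f) :
    {k | k ∈ K ∧ j * k * j = k⁻¹}.ncard < 2835 := by
  classical
  haveI : Fintype G := Fintype.ofFinite _
  by_contra hge
  rw [not_lt] at hge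
  have hjm : ∀ x : G, j * (j * x) = x := fun x => by rw [← mul_assoc, hjj, one_mul]
  have hji : j⁻¹ = j := inv_eq_of_mul_eq_one_right hjj
  set Cj := K ⊓ Subgroup.centralizer ({j} : Set G) with hCj
  have hdvd : Nat.card ↥K ∣ 25515 := by
    have h := Subgroup.card_dvd_of_le hK
    rw [hX, show 3265920 = 128 * 25515 by norm_num] at h
    refine Nat.Coprime.dvd_of_dvd_mul_left ?_ h
    have : Nat.Coprime (Nat.card ↥K) (2 ^ 7) := Nat.Coprime.pow_right _ (Nat.coprime_two_right.2 hodd)
    simpa using this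
  have hCdvd : Nat.card ↥Cj ∣ 9 := by
    have h1 : Nat.card ↥Cj ∣ Nat.card ↥K := Subgroup.card_dvd_of_le inf_le_left
    have h2 : Nat.card ↥Cj ∣ 1152 := hcj ▸ Subgroup.card_dvd_of_le inf_le_right
    rw [show 1152 = 128 * 9 by norm_num] at h2
    refine Nat.Coprime.dvd_of_dvd_mul_left ?_ h2
    have : Nat.Coprime (Nat.card ↥Cj) (2 ^ 7) :=
      Nat.Coprime.pow_right _ (Nat.coprime_two_right.2 (Odd.of_dvd_nat hodd h1))
    simpa using this
  -- inverted times fixed
  have hmul : 2835 * Nat.card ↥Cj ≤ Nat.card ↥K := by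
    let f : {k | k ∈ K ∧ j * k * j = k⁻¹} × ↥Cj → ↥K := fun p => ⟨p.1.1 * p.2.1, mul_mem p.1.2.1 p.2.2.1⟩
    have hf : Function.Injective f := by
      rintro ⟨⟨u, hu, hu'⟩, ⟨c, hc, hc'⟩⟩ ⟨⟨w, hw, hw'⟩, ⟨d, hd, hd'⟩⟩ h
      have h' : u * c = w * d := congrArg Subtype.val h
      have e1 : w⁻¹ * u = d * c⁻¹ := by
        calc w⁻¹ * u = w⁻¹ * (u * c) * c⁻¹ := by group
          _ = _ := by rw [h']; group
      set δ := d * c⁻¹ with hδ
      have hδK : δ ∈ K := mul_mem hd (inv_mem hc)
      have hδj : δ * j = j * δ := Subgroup.mem_centralizer_singleton_iff.1 (mul_mem hd' (inv_mem hc'))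
      have e2 : u = w * δ := by rw [← e1, mul_inv_cancel_left]
      have e3 : w⁻¹ * δ = δ⁻¹ * w⁻¹ := by
        calc w⁻¹ * δ = (j * w * j) * δ := by rw [hw']
          _ = j * (w * δ) * j := by simp only [mul_assoc, ← hδj]
          _ = (w * δ)⁻¹ := by rw [← e2]; exact hu'
          _ = _ := mul_inv_rev _ _
      -- an element of odd order cannot invert another non-trivially
      have hw2 : ∀ n : ℕ, (w ^ (2 * n)) * δ = δ * w ^ (2 * n) := by
        have hstep : (w ^ 2) * δ = δ * w ^ 2 := by
          have e4 : w * δ * w⁻¹ = δ⁻¹ := by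
            have := congrArg (fun x => w * x⁻¹) e3
            simp only [mul_inv_rev, inv_inv] at this
            calc w * δ * w⁻¹ = (w * δ) * w⁻¹ := rfl
              _ = _ := ?_
            have e5 : δ⁻¹ * w = w * δ := by
              calc δ⁻¹ * w = w * (w⁻¹ * δ⁻¹ * w) := by group
                _ = w * δ := by
                  have : w⁻¹ * δ⁻¹ * w = δ := by
                    calc w⁻¹ * δ⁻¹ * w = (w⁻¹ * δ * w)⁻¹ := by group
                      _ = (δ⁻¹ * w⁻¹ * w)⁻¹ := by rw [e3]
                      _ = δ := by group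
                  rw [this]
            rw [← e5]; group
          calc w ^ 2 * δ = w * (w * δ * w⁻¹) * w := by rw [pow_two]; group
            _ = (w * δ * w⁻¹)⁻¹ * w ^ 2 := by rw [e4, inv_inv, pow_two]; conv_lhs => rw [show
                  w * δ⁻¹ * w = (w * δ * w⁻¹)⁻¹ * (w * w) by group, e4, inv_inv]
            _ = _ := by rw [e4, inv_inv]
        intro n
        rw [pow_mul]
        exact ((show Commute (w ^ 2) δ from hstep).pow_left n).eq
      obtain ⟨n, hn⟩ := Odd.of_dvd_nat hodd (by
        have := orderOf_dvd_natCard (⟨w, hw⟩ : ↥K)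
        rwa [Subgroup.orderOf_mk] at this : orderOf w ∣ Nat.card ↥K)
      have hwc : w * δ = δ * w := by
        have := hw2 (n + 1)
        rwa [show 2 * (n + 1) = (2 * n + 1) + 1 by ring, pow_succ', ← hn, pow_orderOf_eq_one, mul_one] at this
      have hδ2 : δ * δ = 1 := by
        have : δ⁻¹ = δ := by
          have e6 : w⁻¹ * δ = δ * w⁻¹ := ((show Commute w δ from hwc).inv_left).eq
          exact (mul_right_cancel (e6.symm.trans e3)).symm
        nth_rewrite 1 [← this]
        exact inv_mul_cancel δ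
      have hδ1 : δ = 1 := by
        have h1 : orderOf δ ∣ 2 := orderOf_dvd_of_pow_eq_one (by rw [pow_two, hδ2])
        have h2 : Odd (orderOf δ) := Odd.of_dvd_nat hodd (by
          have := orderOf_dvd_natCard (⟨δ, hδK⟩ : ↥K)
          rwa [Subgroup.orderOf_mk] at this)
        rcases (Nat.dvd_prime Nat.prime_two).1 h1 with h | h
        · exact orderOf_eq_one_iff.1 h
        · rw [h] at h2; exact absurd h2 (by decide)
      have huw : u = w := by rw [e2, hδ1, mul_one]
      subst huw
      simp [mul_left_cancel h']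
    have h := Nat.card_le_card_of_injective f hf
    rw [Nat.card_prod, Nat.card_coe_set_eq] at h
    exact (Nat.mul_le_mul_right _ hge).trans h
  obtain ⟨e, he⟩ := hdvd
  have hKpos : 0 < Nat.card ↥K := Nat.card_pos
  have he9 : e ≤ 9 := by
    by_contra h
    have h1 : 2835 * 1 ≤ Nat.card ↥K := (Nat.mul_le_mul_left _ (Nat.card_pos (α := ↥Cj))).trans hmul
    nlinarith [Nat.mul_le_mul h1 (Nat.succ_le_of_lt (not_le.1 h))]
  have hseven : ∀ P : Subgroup G, P ≤ K → Nat.card ↥P = 7 →
      Nat.card ↥(Subgroup.normalizer (P : Set G) ⊓ K : Subgroup G) ∣ 21 := fun P hP hc => by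
    rw [← h7 P (hP.trans hK) hc]
    exact Subgroup.card_dvd_of_le (inf_le_inf_left _ hK)
  by_cases hC1 : Nat.card ↥Cj = 1
  · have hfree : ∀ k ∈ K, j * k * j = k → k = 1 := fun k hk h => by
      have : k ∈ Cj := ⟨hk, Subgroup.mem_centralizer_singleton_iff.2 (by
        calc k * j = (j * k * j) * j := by rw [h]
          _ = j * k := by rw [mul_assoc, hjj, mul_one])⟩
      rwa [Subgroup.card_eq_one.1 hC1, Subgroup.mem_bot] at this
    have hinv := all_inverted hjj hnorm hfree
    have hab : ∀ u ∈ K, ∀ w ∈ K, u * w = w * u := by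
      intro u hu w hw
      have h := hinv _ (mul_mem hu hw)
      rw [show j * (u * w) * j = (j * u * j) * (j * w * j) by simp only [mul_assoc, hjm], hinv u hu, hinv w hw,
        mul_inv_rev] at h
      simpa using (congrArg (fun x => x⁻¹) h).symm
    by_cases h7K : 7 ∣ Nat.card ↥K
    · haveI := Fact.mk (show Nat.Prime 7 by norm_num)
      obtain ⟨⟨f, hf⟩, hf7⟩ := exists_prime_orderOf_dvd_card' 7 h7K
      rw [Subgroup.orderOf_mk] at hf7
      have hle : Subgroup.zpowers f ≤ K := by rwa [Subgroup.zpowers_le]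
      have hN : K ≤ Subgroup.normalizer (Subgroup.zpowers f : Set G) ⊓ X := le_inf (fun k hk => by
        refine Subgroup.mem_normalizer_fintype fun n hn => ?_
        rw [hab k hk n (hle hn), mul_inv_cancel_right]
        exact hn) hK
      have hcard := Subgroup.card_le_of_le hN
      rw [h7 _ (hle.trans hK) (by rw [Nat.card_zpowers, hf7])] at hcard
      rw [hC1, mul_one] at hmul
      omega
    · have hK3645 : Nat.card ↥K = 3645 := by
        rw [hC1, mul_one] at hmul
        interval_cases e <;> omega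
      haveI := Fact.mk (show Nat.Prime 5 by norm_num)
      haveI := Fact.mk (show Nat.Prime 3 by norm_num)
      obtain ⟨⟨f, hf⟩, hf5⟩ := exists_prime_orderOf_dvd_card' (G := ↥K) 5 (by rw [hK3645]; norm_num)
      rw [Subgroup.orderOf_mk] at hf5
      obtain ⟨S, hS⟩ := Sylow.exists_subgroup_card_pow_prime 3 (n := 6)
        (show 3 ^ 6 ∣ Nat.card ↥K by rw [hK3645]; norm_num)
      set S' : Subgroup ↥X := S.map (Subgroup.inclusion hK) with hS'
      have hS'c : Nat.card ↥S' = 3 ^ 6 := by
        rw [hS', Subgroup.card_map_of_injective (Subgroup.inclusion_injective hK), hS]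
      let P : Sylow 3 ↥X := (IsPGroup.of_card hS'c).toSylow (by
        intro h
        have := S'.card_mul_index
        rw [hS'c, hX] at this
        omega)
      have ha' : IsPGroup 3 ↥(Subgroup.zpowers (⟨a, ha⟩ : ↥X)) := IsPGroup.of_card (n := 1) (by
        rw [Nat.card_zpowers, Subgroup.orderOf_mk, ha3, pow_one])
      obtain ⟨Q, hQ⟩ := ha'.exists_le_sylow
      obtain ⟨g, hg⟩ := MulAction.exists_smul_eq ↥X Q P
      have hmem : g * ⟨a, ha⟩ * g⁻¹ ∈ (P : Subgroup ↥X) := by
        rw [← hg, Sylow.coe_subgroup_smul]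
        exact Subgroup.smul_mem_pointwise_smul _ (MulAut.conj g) _ (hQ (Subgroup.mem_zpowers _))
      obtain ⟨k, -, hk⟩ := Subgroup.mem_map.1 hmem
      have hkK : (g : G) * a * (g : G)⁻¹ ∈ K := by
        have := congrArg (Subtype.val : ↥X → G) hk
        simp only [Subgroup.coe_inclusion, Subgroup.coe_mul, InvMemClass.coe_inv] at this
        rw [← this]; exact k.2
      refine h5 ((g : G)⁻¹ * f * g) ?_ ?_
      · rw [← hf5, ← MulEquiv.orderOf_eq (MulAut.conj (g : G))]; simp [MulAut.conj_apply, mul_assoc]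
      · have := hab _ hkK f hf
        calc a * ((g : G)⁻¹ * f * g) = (g : G)⁻¹ * ((g * a * (g : G)⁻¹) * f) * g := by group
          _ = (g : G)⁻¹ * (f * (g * a * (g : G)⁻¹)) * g := by rw [this]
          _ = _ := by group
  · have hC3 : 3 ≤ Nat.card ↥Cj := by
      have := Nat.le_of_dvd (by norm_num) hCdvd
      interval_cases h : Nat.card ↥Cj <;> omega
    haveI := Fact.mk (show Nat.Prime 7 by norm_num)
    have h8505 : 8505 ≤ Nat.card ↥K := le_trans (by omega) ((Nat.mul_le_mul_left _ hC3).trans hmul)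
    have hKc : Nat.card ↥K = 25515 ∨ Nat.card ↥K = 8505 := by interval_cases e <;> omega
    obtain ⟨P⟩ : Nonempty (Sylow 7 ↥K) := inferInstance
    have hPc : Nat.card ↥(P : Subgroup ↥K) = 7 := by
      obtain ⟨n, hn⟩ := IsPGroup.iff_card.1 P.2
      have h := (P : Subgroup ↥K).card_mul_index
      have hnd := P.not_dvd_index
      rw [hn] at h
      rcases n with _ | _ | n
      · exfalso
        rw [pow_zero, one_mul] at h
        rcases hKc with hc | hc <;> rw [hc] at h <;> omega
      · exact hn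
      · exfalso
        have : 49 ∣ Nat.card ↥K := ⟨7 ^ n * (P : Subgroup ↥K).index, by rw [← h]; ring⟩
        rcases hKc with hc | hc <;> rw [hc] at this <;> omega
    set N := Subgroup.normalizer ((P : Subgroup ↥K) : Set ↥K) with hN
    have hNd : Nat.card ↥N ∣ 21 := by
      set P' := (P : Subgroup ↥K).map K.subtype
      have hP' : Nat.card ↥P' = 7 := by rw [Subgroup.card_map_of_injective K.subtype_injective, hPc]
      have h := hseven P' (Subgroup.map_subtype_le _) hP'
      refine dvd_trans ?_ h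
      rw [← Subgroup.card_map_of_injective (K := N) K.subtype_injective]
      refine Subgroup.card_dvd_of_le (le_inf ?_ (Subgroup.map_subtype_le _))
      exact Subgroup.le_normalizer_map _
    have hN7 : 7 ∣ Nat.card ↥N := hPc ▸ Subgroup.card_dvd_of_le Subgroup.le_normalizer
    have hNm := N.card_mul_index
    have hmod : N.index % 7 = 1 := by
      have h := card_sylow_modEq_one 7 ↥K
      rw [P.card_eq_index_normalizer] at h
      exact h
    have hNle := Nat.le_of_dvd (by norm_num) hNd
    obtain ⟨q, hq⟩ := hN7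
    have hq3 : q = 1 ∨ q = 3 := by
      rw [hq] at hNd hNle
      have : q ≤ 3 := by omega
      interval_cases q <;> simp_all
    rcases hKc with hc | hc <;> rcases hq3 with rfl | rfl <;> rw [hq, hc] at hNm <;> omega

end CfsgLib.UFourType.Endgame
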