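import Cfsg.Agent.Lib.UFourType.ThreeLocal.Main

/-!
The order of the centraliser of the element of order three.
-/

set_option autoImplicit false
set_option maxRecDepth 20000

namespace CfsgLib.UFourType.Endgame

open Subgroup

variable {G : Type*} [Group G] [Finite G] {z : G} {el : ℕ → G} {s : G}

/-- The centraliser of the element of order three has order 972. -/
theorem card_centralizer_a (C : Code z el) (S : Cyc el s) :
    Nat.card ↥(centralizer ({el aC} : Set G)) = 972 := by
  classical
  obtain ⟨f1, f2, f3, f4, f5⟩ := Cert.Local.mEl_facts C S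
  have hz : orderOf z = 2 := by
    rw [← C.z_eq]
    exact orderOf_eq_prime (by rw [pow_two, zC, C.el_mul (by norm_num) (by norm_num),
      show uMul 1 1 = 0 by decide +kernel, C.one]) (C.el_ne_one (by decide) (by decide))
  let A : Subgroup ↥(centralizer ({el aC} : Set G)) := zpowers ⟨el aC, mem_centralizer_singleton_iff.2 rfl⟩
  haveI hAn : A.Normal := ⟨fun a ha d => by
    obtain ⟨i, rfl⟩ := mem_zpowers_iff.1 ha
    have h1 : Commute d (⟨el aC, mem_centralizer_singleton_iff.2 rfl⟩ : ↥(centralizer ({el aC} : Set G))) :=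
      Subtype.ext (mem_centralizer_singleton_iff.1 d.2)
    rw [(h1.zpow_right i).eq, mul_inv_cancel_right]
    exact zpow_mem_zpowers _ i⟩
  obtain ⟨P, hP, hone, hcP, hcJ, hzP, hmemA, hA3⟩ :=
    quotient_facts C (⟨f1, f2, f3, f4, f5⟩ : MRules el (mEl el s)) (A := A) rfl
  have hzD : el zC ∈ centralizer ({el aC} : Set G) :=
    mem_centralizer_singleton_iff.2 ((C.el_comm_iff (by decide) (by decide)).2 (by decide +kernel))
  obtain ⟨hJP, hJ2⟩ := hzP hzD
  have hDcard : Nat.card ↥(centralizer ({el aC} : Set G)) =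
      Nat.card (↥(centralizer ({el aC} : Set G)) ⧸ A) * 3 := by
    rw [card_eq_card_quotient_mul_card_subgroup A, hA3]
  obtain ⟨hF1, hF2⟩ := Cert.Local.flip_facts C S
  rcases order_cases P hP hone hJP hJ2 (hcJ _ hJ2) hcP with hX | hX | hX | hX
  · rw [hDcard, hX]
  · exact (no_nine C hz (by rw [hDcard, hX]; norm_num) hF1 hF2).elim
  · exact (no_nine C hz (by rw [hDcard, hX]; norm_num) hF1 hF2).elim
  · exact absurd hX (card_ne_sixteen_twenty P hP hone hcJ)

end CfsgLib.UFourType.Endgame
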