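import Cfsg.Agent.Lib.UFourType.Endgame.Embed
import Cfsg.Agent.Lib.UFourType.Endgame.OddSub
import Cfsg.Agent.Lib.UFourType.Endgame.Fuse
import Cfsg.Agent.Lib.UFourType.Endgame.ThreeCard
import Cfsg.Agent.Lib.UFourType.Cert.Global
import Cfsg.Agent.Lib.UFourType.Fusion.Class
import Cfsg.Agent.Lib.Tails.UFourModel
import Cfsg.Agent.S5513

/-!
The group is the generated subgroup, hence the unitary group of dimension four over nine elements.
-/

set_option autoImplicit false
set_option maxRecDepth 20000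
open Cfsg

namespace CfsgLib.UFourType.Endgame

variable {G : Type*} [Group G] [Finite G] {z : G} {el : ℕ → G} {s : G}

/-- The order of the centraliser. -/
theorem card_cent (C : Code z el) : Nat.card ↥(Subgroup.centralizer ({z} : Set G)) = 1152 := by
  rw [← Nat.card_fin 1152]
  refine (Nat.card_eq_of_bijective (fun c : Fin 1152 => (⟨el c, C.mem c c.2⟩ :
    ↥(Subgroup.centralizer ({z} : Set G)))) ⟨fun a b h => Fin.ext (C.inj a b a.2 b.2 (congrArg Subtype.val h)),
    fun g => ?_⟩).symm
  obtain ⟨c, hc, e⟩ := C.surj g g.2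
  exact ⟨⟨c, hc⟩, Subtype.ext e⟩

theorem order_z (C : Code z el) : orderOf z = 2 := by
  rw [← C.z_eq]
  refine orderOf_eq_prime ?_ fun h => ?_
  · rw [pow_two, (C.mul zC zC (by decide) (by decide)).2, show uMul zC zC = 0 by decide +kernel, C.one]
  · exact absurd (C.inj zC 0 (by decide) (by decide) (h.trans C.one.symm)) (by decide)

/-- The group is isomorphic to the model. -/
theorem iso_of_model (C : Code z el) (S : Cyc el s) (K : Type) [Field K] [Fintype K] (hK : Fintype.card K = 9)
    {z' : PSU 4 K 3} {el' : ℕ → PSU 4 K 3} {s' : PSU 4 K 3} (C' : Code z' el') (S' : Cyc el' s')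
    (hcom' : evW el' s' relCom = 1) (hgen : Subgroup.closure (el' '' Set.Iio 1152 ∪ {s'}) = ⊤) :
    Nonempty (G ≃* PSU 4 K 3) ∧ Nat.card G = 3265920 := by
  classical
  haveI hsimple : IsSimpleGroup (PSU 4 K 3) :=
    CfsgLib.Classical.Unitary.isSimpleGroup_PSU (by rw [hK]; norm_num) (by norm_num) (by norm_num)
  have hcardM : Nat.card (PSU 4 K 3) = 3265920 := CfsgLib.Schur.Tails.UFour.card_psu_four hK
  haveI : Finite (PSU 4 K 3) := Nat.finite_of_card_ne_zero (by omega)
  obtain ⟨φ, hφ, -, hrange⟩ := Cert.exists_hom C S (com_one_of_cyc C S) C' S' hcom' hgen hcardM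
  have hz := order_z C
  have hinj : Function.Injective φ := by
    rw [← MonoidHom.ker_eq_bot_iff]
    refine (inferInstance : φ.ker.Normal).eq_bot_or_eq_top.resolve_right fun h => ?_
    have h1 : φ (el' zC) = 1 := MonoidHom.mem_ker.1 (h ▸ Subgroup.mem_top _)
    rw [hφ zC (by decide), C.z_eq] at h1
    rw [h1, orderOf_one] at hz
    omega
  set X := gX el s with hXdef
  have hX : φ.range = X := hrange
  have hcardX : Nat.card ↥X = 3265920 := by
    rw [← hX, ← hcardM]; exact (Nat.card_congr (MonoidHom.ofInjective hinj).toEquiv).symm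
  have hCX : Subgroup.centralizer ({z} : Set G) ≤ X := fun g hg => by
    obtain ⟨c, hc, rfl⟩ := C.surj g hg
    exact el_mem_gX el s hc
  have hcC := card_cent C
  have hrel : (Subgroup.centralizer ({z} : Set G)).relIndex X = 2835 := by
    have h := Subgroup.card_mul_index ((Subgroup.centralizer ({z} : Set G)).subgroupOf X)
    rw [Nat.card_congr (Subgroup.subgroupOfEquivOfLe hCX).toEquiv, hcC, hcardX] at h
    show ((Subgroup.centralizer ({z} : Set G)).subgroupOf X).index = 2835
    omega
  -- one class of involutions in the generated subgroup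
  have hfus : ∀ v ∈ X, orderOf v = 2 → ∃ g ∈ X, g * z * g⁻¹ = v := by
    intro v hv hv2
    haveI := Fact.mk Nat.prime_two
    set D := (Subgroup.centralizer ({z} : Set G)).subgroupOf X with hD
    obtain ⟨T⟩ : Nonempty (Sylow 2 ↥D) := inferInstance
    have hp : IsPGroup 2 ↥((T : Subgroup ↥D).map D.subtype) := T.2.map _
    have hi : ¬ 2 ∣ ((T : Subgroup ↥D).map D.subtype).index := by
      rw [Subgroup.index_map_subtype]
      intro h
      rcases Nat.prime_two.dvd_mul.1 h with h | h
      · exact T.not_dvd_index h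
      · rw [show D.index = 2835 from hrel] at h; omega
    have hvp : IsPGroup 2 ↥(Subgroup.zpowers (⟨v, hv⟩ : ↥X)) := IsPGroup.of_card (n := 1) (by
      rw [Nat.card_zpowers, Subgroup.orderOf_mk, hv2, pow_one])
    obtain ⟨P, hP⟩ := hvp.exists_le_sylow
    obtain ⟨g, hg⟩ := MulAction.exists_smul_eq ↥X P (hp.toSylow hi)
    have hmem : g * ⟨v, hv⟩ * g⁻¹ ∈ (hp.toSylow hi : Subgroup ↥X) := by
      rw [← hg, Sylow.coe_subgroup_smul]
      exact Subgroup.smul_mem_pointwise_smul _ (MulAut.conj g) _ (hP (Subgroup.mem_zpowers _))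
    obtain ⟨⟨d, hd⟩, -, hde⟩ := Subgroup.mem_map.1 hmem
    have hde' : (d : G) = (g : G) * v * (g : G)⁻¹ := by
      have := congrArg (Subtype.val : ↥X → G) hde
      simpa using this
    obtain ⟨c, hc, ec⟩ := C.surj _ (Subgroup.mem_subgroupOf.1 hd)
    have ho : orderOf ((g : G) * v * (g : G)⁻¹) = 2 := by
      rw [← hv2]; exact MulEquiv.orderOf_eq (MulAut.conj (g : G)) v
    rw [← hde', ← ec] at ho
    obtain ⟨x, hx, ex⟩ := conj_of_invol C S hc
      (C.inj _ 0 (C.mul c c hc hc).1 (by decide) (by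
        rw [← (C.mul c c hc hc).2, C.one, ← pow_two, ← ho, pow_orderOf_eq_one]))
      (fun h => by rw [h, C.one, orderOf_one] at ho; omega)
    refine ⟨(g : G)⁻¹ * x, mul_mem (inv_mem g.2) hx, ?_⟩
    rw [show (g : G)⁻¹ * x * z * ((g : G)⁻¹ * x)⁻¹ = (g : G)⁻¹ * (x * z * x⁻¹) * g by group, ex, ec, hde']
    group
  have h7 : ∀ P : Subgroup G, P ≤ X → Nat.card ↥P = 7 →
      Nat.card ↥(Subgroup.normalizer (P : Set G) ⊓ X : Subgroup G) = 21 := by
    intro P hP hPc
    set P' := P.comap φ with hP'
    have hmap : P'.map φ = P := Subgroup.map_comap_eq_self (hX ▸ hP)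
    have hc' : Nat.card ↥P' = 7 := by
      rw [← hPc, ← hmap, Subgroup.card_map_of_injective hinj]
    rw [← (Cfsg.Agent.S5513.result K hK P' hc').1]
    have e : Subgroup.normalizer (P : Set G) ⊓ X = (Subgroup.normalizer (P' : Set (PSU 4 K 3))).map φ := by
      ext g
      constructor
      · rintro ⟨hg, hgX⟩
        rw [← hX] at hgX
        obtain ⟨m, rfl⟩ := hgX
        refine ⟨m, Subgroup.mem_normalizer_fintype fun n hn => ?_, rfl⟩
        show φ (m * n * m⁻¹) ∈ P
        rw [map_mul, map_mul, map_inv]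
        exact (Subgroup.mem_normalizer_iff.1 hg _).1 hn
      · rintro ⟨m, hm, rfl⟩
        refine ⟨Subgroup.mem_normalizer_fintype fun n hn => ?_, hX ▸ ⟨m, rfl⟩⟩
        obtain ⟨n', hn', rfl⟩ : n ∈ P'.map φ := hmap.symm ▸ hn
        rw [← map_inv, ← map_mul, ← map_mul]
        show φ (m * n' * m⁻¹) ∈ P
        exact (Subgroup.mem_normalizer_iff.1 hm _).1 hn'
    rw [e, Subgroup.card_map_of_injective hinj]
  have hca := card_centralizer_a C S
  have h5 : ∀ f : G, orderOf f = 5 → ¬ Commute (el aC) f := fun f hf hcm => by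
    have h := orderOf_dvd_natCard (⟨f, Subgroup.mem_centralizer_singleton_iff.2 hcm.eq.symm⟩ :
      ↥(Subgroup.centralizer ({el aC} : Set G)))
    rw [Subgroup.orderOf_mk, hf, hca] at h
    norm_num at h
  have ha3 : orderOf (el aC) = 3 := by
    haveI := Fact.mk (show Nat.Prime 3 by norm_num)
    refine orderOf_eq_prime ?_ fun h => ?_
    · rw [pow_succ, pow_two, (C.mul aC aC (by decide) (by decide)).2,
        (C.mul _ aC (C.mul aC aC (by decide) (by decide)).1 (by decide)).2,
        show uMul (uMul aC aC) aC = 0 by decide +kernel, C.one]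
    · exact absurd (C.inj aC 0 (by decide) (by decide) (h.trans C.one.symm)) (by decide)
  have htop : X = ⊤ := by
    by_contra hne
    obtain ⟨j, K', hK', hodd, hj2, hnorm, hge⟩ := exists_inverted hz hCX hfus hne
    have hjj : j * j = 1 := by rw [← pow_two, ← hj2, pow_orderOf_eq_one]
    obtain ⟨g, hg⟩ := isConj_iff.1 (Fusion.one_class C S j hj2).symm
    have hcj : Nat.card ↥(Subgroup.centralizer ({j} : Set G)) = 1152 := by
      rw [← hcC, ← Subgroup.card_map_of_injective (f := (MulAut.conj g).toMonoidHom) (MulAut.conj g).injective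
        (K := Subgroup.centralizer ({z} : Set G))]
      congr 2
      ext x
      rw [Subgroup.mem_map]
      constructor
      · intro hx
        rw [Subgroup.mem_centralizer_singleton_iff] at hx
        refine ⟨g⁻¹ * x * g, Subgroup.mem_centralizer_singleton_iff.2 ?_, by simp [mul_assoc]⟩
        calc g⁻¹ * x * g * z = g⁻¹ * (x * (g * z * g⁻¹)) * g := by group
          _ = g⁻¹ * ((g * z * g⁻¹) * x) * g := by rw [hg, hx]
          _ = z * (g⁻¹ * x * g) := by group
      · rintro ⟨y, hy, rfl⟩
        rw [Subgroup.mem_centralizer_singleton_iff] at hy ⊢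
        simp only [MulEquiv.toMonoidHom_eq_coe, MonoidHom.coe_coe, MulAut.conj_apply, ← hg]
        calc g * y * g⁻¹ * (g * z * g⁻¹) = g * (y * z) * g⁻¹ := by group
          _ = g * (z * y) * g⁻¹ := by rw [hy]
          _ = _ := by group
    have := inverted_lt hcardX hK' hodd hjj hnorm hcj h7 (el_mem_gX el s (by decide)) ha3 h5
    rw [hrel] at hge
    omega
  refine ⟨⟨(MulEquiv.ofBijective φ ⟨hinj, fun g => ?_⟩).symm⟩, by rw [← hcardX, htop, Subgroup.card_top]⟩
  have : g ∈ φ.range := by rw [hX, htop]; exact Subgroup.mem_top _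
  exact this

end CfsgLib.UFourType.Endgame
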